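import Cfsg.Agent.J4NonLocal.Borel.Tables
import Cfsg.Agent.J4NonLocal.LTwo.Main
import Cfsg.Agent.J4Cert.CentQ

/-!
A subgroup L₂(32):5 of the fourth Janko group.
-/

set_option autoImplicit false
set_option maxRecDepth 20000
set_option Elab.async false

namespace Cfsg.Lib.J4NonLocal.Borel

open Cfsg Cfsg.Lib.J4Cert Cfsg.Lib.J4NonLocal.LTwo

/-- The matrices by index: the letters and the further ones. -/
def nd (k : ℕ) : List ℕ := bif Nat.blt k 4 then letM k else ndTab.get (k - 4)

theorem nd_low (l : ℕ) (h : l < 4) : nd l = letM l := by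
  rw [nd, show Nat.blt l 4 = true from by simpa using h]; rfl

theorem prog0_ok : progOK nd 4 ndProg0 = true := by decide +kernel
theorem prog1_ok : progOK nd 54 ndProg1 = true := by decide +kernel
theorem prog2_ok : progOK nd 104 ndProg2 = true := by decide +kernel
theorem prog3_ok : progOK nd 154 ndProg3 = true := by decide +kernel

/-- The matrix of the translation. -/
def mU32 : List ℕ := nd 200
/-- The matrix of the dilation. -/
def mT32 : List ℕ := nd 15
/-- The matrix of the swap. -/
def mW32 : List ℕ := nd 11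
/-- The matrix of the field automorphism. -/
def mF32 : List ℕ := nd 95

/-- The matrix of a conjugate of the translation. -/
def cM (i : ℕ) : List ℕ := mB (mB (mPow mT32 (i + 1)) mU32) (mPow mT32 (30 - i))

theorem checks : leq (mB mU32 mU32) J4Rep.idMat = true ∧ leq (mPow mT32 31) J4Rep.idMat = true ∧
    leq (mB mW32 mW32) J4Rep.idMat = true ∧ leq (mB (mB (mB mW32 mT32) mW32) mT32) J4Rep.idMat = true ∧
    leq (mB (mB (mPow mT32 5) mU32) (mPow mT32 26))
      (mB mU32 (mB (mB (mPow mT32 2) mU32) (mPow mT32 29))) = true ∧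
    leq (mB (mB mW32 mU32) mW32) (mB (mB mU32 mW32) mU32) = true := by decide +kernel

theorem checks_comm : (List.range 4).all (fun i => leq (mB mU32 (cM i)) (mB (cM i) mU32)) = true := by
  decide +kernel

theorem checks_f : leq (mPow mF32 5) J4Rep.idMat = true ∧ leq (mB mF32 mU32) (mB mU32 mF32) = true ∧
    leq (mB mF32 mW32) (mB mW32 mF32) = true ∧ leq (mB mF32 mT32) (mB (mPow mT32 2) mF32) = true := by
  decide +kernel

theorem nontriv : leq mU32 J4Rep.idMat = false := by decide +kernel

theorem leq_refl : leq J4Rep.idMat J4Rep.idMat = true := by decide +kernel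

attribute [local irreducible] mB mPow nd leq ndTab ndProg0 ndProg1 ndProg2 ndProg3

theorem nd_mem : ∀ j < 201, ∃ g, MOK g (nd j) := by
  have h0 : ∀ j < 4, ∃ g, MOK g (nd j) := fun j hj => ⟨letG j, nd_low j hj ▸ letM_ok j⟩
  have l0 : ndProg0.length = 50 := by decide +kernel
  have l1 : ndProg1.length = 50 := by decide +kernel
  have l2 : ndProg2.length = 50 := by decide +kernel
  have l3 : ndProg3.length = 47 := by decide +kernel
  have h1 : ∀ j < 54, ∃ g, MOK g (nd j) := fun j hj =>
    progOK_sound nd_low ndProg0 4 prog0_ok h0 j (by rw [l0]; exact hj)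
  have h2 : ∀ j < 104, ∃ g, MOK g (nd j) := fun j hj =>
    progOK_sound nd_low ndProg1 54 prog1_ok h1 j (by rw [l1]; exact hj)
  have h3 : ∀ j < 154, ∃ g, MOK g (nd j) := fun j hj =>
    progOK_sound nd_low ndProg2 104 prog2_ok h2 j (by rw [l2]; exact hj)
  exact fun j hj => progOK_sound nd_low ndProg3 154 prog3_ok h3 j (by rw [l3]; exact hj)

/-- The element of a node. -/
noncomputable def nel (j : ℕ) : Spor.J4 := if h : j < 201 then (nd_mem j h).choose else 1

theorem nel_ok {j : ℕ} (h : j < 201) : MOK (nel j) (nd j) := by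
  rw [nel, dif_pos h]; exact (nd_mem j h).choose_spec

/-- The translation. -/
noncomputable def j32u : Spor.J4 := nel 200
/-- The dilation. -/
noncomputable def j32t : Spor.J4 := nel 15
/-- The swap. -/
noncomputable def j32w : Spor.J4 := nel 11
/-- The field automorphism. -/
noncomputable def j32f : Spor.J4 := nel 95

theorem u_mok : MOK j32u mU32 := nel_ok (by norm_num)
theorem t_mok : MOK j32t mT32 := nel_ok (by norm_num)
theorem w_mok : MOK j32w mW32 := nel_ok (by norm_num)
theorem f_mok : MOK j32f mF32 := nel_ok (by norm_num)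

theorem eq_of_leq {g h : Spor.J4} {A B : List ℕ} (hg : MOK g A) (hh : MOK h B) (e : leq A B = true) : g = h :=
  hg.eq (leq_eq e ▸ hh)

theorem rel_j : RelThirtyTwo j32u j32t j32w j32f := by
  obtain ⟨a1, a2, a3, a4, a5, a6⟩ := checks
  obtain ⟨b1, b2, b3, b4⟩ := checks_f
  have hc := checks_comm
  simp only [List.all_eq_true, List.mem_range] at hc
  have u := u_mok
  have t := t_mok
  have w := w_mok
  have f := f_mok
  refine ⟨⟨eq_of_leq (u.mul u) MOK.one a1, eq_of_leq (t.npow 31) MOK.one a2, eq_of_leq (w.mul w) MOK.one a3,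
    eq_of_leq (((w.mul t).mul w).mul t) MOK.one a4, fun i => ?_,
    eq_of_leq (((t.npow 5).mul u).mul (t.npow 26)) (u.mul (((t.npow 2).mul u).mul (t.npow 29))) a5,
    eq_of_leq ((w.mul u).mul w) ((u.mul w).mul u) a6⟩, eq_of_leq (f.npow 5) MOK.one b1,
    eq_of_leq (f.mul u) (u.mul f) b2, eq_of_leq (f.mul w) (w.mul f) b3,
    eq_of_leq (f.mul t) ((t.npow 2).mul f) b4⟩
  have c := ((t.npow (i.val + 1)).mul u).mul (t.npow (30 - i.val))
  exact eq_of_leq (u.mul c) (c.mul u) (hc i.val i.isLt)

theorem u_ne : j32u ≠ 1 := fun h => by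
  have e : mU32 = J4Rep.idMat := by
    have h1 : MOK (1 : Spor.J4) mU32 := h ▸ u_mok
    exact h1.mat_eq MOK.one rfl
  exact Bool.false_ne_true (by rw [← nontriv, e]; exact leq_refl)

/-- The subgroup L₂(32):5. -/
noncomputable def S32 : Subgroup Spor.J4 := Subgroup.closure {j32f, j32t, j32u, j32w}

theorem exists_l32 : ∃ (K : Subgroup ↥S32) (F : Type) (_ : Field F) (_ : Fintype F),
    Fintype.card F = 32 ∧ K.Normal ∧ K.index = 5 ∧
      Nonempty (↥K ≃* Matrix.ProjectiveSpecialLinearGroup (Fin 2) F) :=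
  exists_psl_thirty_two rel_j u_ne

end Cfsg.Lib.J4NonLocal.Borel
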