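import Cfsg.Agent.J4Cert.Walk
import Cfsg.Agent.J4NonLocal.Borel.Nodes0
import Cfsg.Agent.J4NonLocal.Borel.Nodes1
import Cfsg.Agent.J4NonLocal.Borel.Nodes2
import Cfsg.Agent.J4NonLocal.Borel.Nodes3

/-!
The table of the matrices and the products by which they arise.
-/

set_option autoImplicit false
set_option maxRecDepth 8000

namespace Cfsg.Lib.J4NonLocal.Borel

open Cfsg.Lib.J4Cert

/-- A part of the table. -/
def ndTree0 : Tr (List ℕ) := .node (.leaf nd0) (.leaf nd128)

/-- A part of the table. -/
def ndTree1 : Tr (List ℕ) := .node (.leaf nd64) (.leaf nd192)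

/-- A part of the table. -/
def ndTree2 : Tr (List ℕ) := .node ndTree0 ndTree1

/-- A part of the table. -/
def ndTree3 : Tr (List ℕ) := .node (.leaf nd32) (.leaf nd160)

/-- A part of the table. -/
def ndTree4 : Tr (List ℕ) := .node ndTree3 (.leaf nd96)

/-- A part of the table. -/
def ndTree5 : Tr (List ℕ) := .node ndTree2 ndTree4

/-- A part of the table. -/
def ndTree6 : Tr (List ℕ) := .node (.leaf nd16) (.leaf nd144)

/-- A part of the table. -/
def ndTree7 : Tr (List ℕ) := .node ndTree6 (.leaf nd80)

/-- A part of the table. -/
def ndTree8 : Tr (List ℕ) := .node (.leaf nd48) (.leaf nd176)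

/-- A part of the table. -/
def ndTree9 : Tr (List ℕ) := .node ndTree8 (.leaf nd112)

/-- A part of the table. -/
def ndTree10 : Tr (List ℕ) := .node ndTree7 ndTree9

/-- A part of the table. -/
def ndTree11 : Tr (List ℕ) := .node ndTree5 ndTree10

/-- A part of the table. -/
def ndTree12 : Tr (List ℕ) := .node (.leaf nd8) (.leaf nd136)

/-- A part of the table. -/
def ndTree13 : Tr (List ℕ) := .node ndTree12 (.leaf nd72)

/-- A part of the table. -/
def ndTree14 : Tr (List ℕ) := .node (.leaf nd40) (.leaf nd168)

/-- A part of the table. -/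
def ndTree15 : Tr (List ℕ) := .node ndTree14 (.leaf nd104)

/-- A part of the table. -/
def ndTree16 : Tr (List ℕ) := .node ndTree13 ndTree15

/-- A part of the table. -/
def ndTree17 : Tr (List ℕ) := .node (.leaf nd24) (.leaf nd152)

/-- A part of the table. -/
def ndTree18 : Tr (List ℕ) := .node ndTree17 (.leaf nd88)

/-- A part of the table. -/
def ndTree19 : Tr (List ℕ) := .node (.leaf nd56) (.leaf nd184)

/-- A part of the table. -/
def ndTree20 : Tr (List ℕ) := .node ndTree19 (.leaf nd120)

/-- A part of the table. -/
def ndTree21 : Tr (List ℕ) := .node ndTree18 ndTree20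

/-- A part of the table. -/
def ndTree22 : Tr (List ℕ) := .node ndTree16 ndTree21

/-- A part of the table. -/
def ndTree23 : Tr (List ℕ) := .node ndTree11 ndTree22

/-- A part of the table. -/
def ndTree24 : Tr (List ℕ) := .node (.leaf nd4) (.leaf nd132)

/-- A part of the table. -/
def ndTree25 : Tr (List ℕ) := .node (.leaf nd68) (.leaf nd196)

/-- A part of the table. -/
def ndTree26 : Tr (List ℕ) := .node ndTree24 ndTree25

/-- A part of the table. -/
def ndTree27 : Tr (List ℕ) := .node (.leaf nd36) (.leaf nd164)

/-- A part of the table. -/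
def ndTree28 : Tr (List ℕ) := .node ndTree27 (.leaf nd100)

/-- A part of the table. -/
def ndTree29 : Tr (List ℕ) := .node ndTree26 ndTree28

/-- A part of the table. -/
def ndTree30 : Tr (List ℕ) := .node (.leaf nd20) (.leaf nd148)

/-- A part of the table. -/
def ndTree31 : Tr (List ℕ) := .node ndTree30 (.leaf nd84)

/-- A part of the table. -/
def ndTree32 : Tr (List ℕ) := .node (.leaf nd52) (.leaf nd180)

/-- A part of the table. -/
def ndTree33 : Tr (List ℕ) := .node ndTree32 (.leaf nd116)

/-- A part of the table. -/
def ndTree34 : Tr (List ℕ) := .node ndTree31 ndTree33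

/-- A part of the table. -/
def ndTree35 : Tr (List ℕ) := .node ndTree29 ndTree34

/-- A part of the table. -/
def ndTree36 : Tr (List ℕ) := .node (.leaf nd12) (.leaf nd140)

/-- A part of the table. -/
def ndTree37 : Tr (List ℕ) := .node ndTree36 (.leaf nd76)

/-- A part of the table. -/
def ndTree38 : Tr (List ℕ) := .node (.leaf nd44) (.leaf nd172)

/-- A part of the table. -/
def ndTree39 : Tr (List ℕ) := .node ndTree38 (.leaf nd108)

/-- A part of the table. -/
def ndTree40 : Tr (List ℕ) := .node ndTree37 ndTree39

/-- A part of the table. -/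
def ndTree41 : Tr (List ℕ) := .node (.leaf nd28) (.leaf nd156)

/-- A part of the table. -/
def ndTree42 : Tr (List ℕ) := .node ndTree41 (.leaf nd92)

/-- A part of the table. -/
def ndTree43 : Tr (List ℕ) := .node (.leaf nd60) (.leaf nd188)

/-- A part of the table. -/
def ndTree44 : Tr (List ℕ) := .node ndTree43 (.leaf nd124)

/-- A part of the table. -/
def ndTree45 : Tr (List ℕ) := .node ndTree42 ndTree44

/-- A part of the table. -/
def ndTree46 : Tr (List ℕ) := .node ndTree40 ndTree45

/-- A part of the table. -/
def ndTree47 : Tr (List ℕ) := .node ndTree35 ndTree46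

/-- A part of the table. -/
def ndTree48 : Tr (List ℕ) := .node ndTree23 ndTree47

/-- A part of the table. -/
def ndTree49 : Tr (List ℕ) := .node (.leaf nd2) (.leaf nd130)

/-- A part of the table. -/
def ndTree50 : Tr (List ℕ) := .node (.leaf nd66) (.leaf nd194)

/-- A part of the table. -/
def ndTree51 : Tr (List ℕ) := .node ndTree49 ndTree50

/-- A part of the table. -/
def ndTree52 : Tr (List ℕ) := .node (.leaf nd34) (.leaf nd162)

/-- A part of the table. -/
def ndTree53 : Tr (List ℕ) := .node ndTree52 (.leaf nd98)

/-- A part of the table. -/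
def ndTree54 : Tr (List ℕ) := .node ndTree51 ndTree53

/-- A part of the table. -/
def ndTree55 : Tr (List ℕ) := .node (.leaf nd18) (.leaf nd146)

/-- A part of the table. -/
def ndTree56 : Tr (List ℕ) := .node ndTree55 (.leaf nd82)

/-- A part of the table. -/
def ndTree57 : Tr (List ℕ) := .node (.leaf nd50) (.leaf nd178)

/-- A part of the table. -/
def ndTree58 : Tr (List ℕ) := .node ndTree57 (.leaf nd114)

/-- A part of the table. -/
def ndTree59 : Tr (List ℕ) := .node ndTree56 ndTree58

/-- A part of the table. -/
def ndTree60 : Tr (List ℕ) := .node ndTree54 ndTree59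

/-- A part of the table. -/
def ndTree61 : Tr (List ℕ) := .node (.leaf nd10) (.leaf nd138)

/-- A part of the table. -/
def ndTree62 : Tr (List ℕ) := .node ndTree61 (.leaf nd74)

/-- A part of the table. -/
def ndTree63 : Tr (List ℕ) := .node (.leaf nd42) (.leaf nd170)

/-- A part of the table. -/
def ndTree64 : Tr (List ℕ) := .node ndTree63 (.leaf nd106)

/-- A part of the table. -/
def ndTree65 : Tr (List ℕ) := .node ndTree62 ndTree64

/-- A part of the table. -/
def ndTree66 : Tr (List ℕ) := .node (.leaf nd26) (.leaf nd154)

/-- A part of the table. -/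
def ndTree67 : Tr (List ℕ) := .node ndTree66 (.leaf nd90)

/-- A part of the table. -/
def ndTree68 : Tr (List ℕ) := .node (.leaf nd58) (.leaf nd186)

/-- A part of the table. -/
def ndTree69 : Tr (List ℕ) := .node ndTree68 (.leaf nd122)

/-- A part of the table. -/
def ndTree70 : Tr (List ℕ) := .node ndTree67 ndTree69

/-- A part of the table. -/
def ndTree71 : Tr (List ℕ) := .node ndTree65 ndTree70

/-- A part of the table. -/
def ndTree72 : Tr (List ℕ) := .node ndTree60 ndTree71

/-- A part of the table. -/
def ndTree73 : Tr (List ℕ) := .node (.leaf nd6) (.leaf nd134)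

/-- A part of the table. -/
def ndTree74 : Tr (List ℕ) := .node ndTree73 (.leaf nd70)

/-- A part of the table. -/
def ndTree75 : Tr (List ℕ) := .node (.leaf nd38) (.leaf nd166)

/-- A part of the table. -/
def ndTree76 : Tr (List ℕ) := .node ndTree75 (.leaf nd102)

/-- A part of the table. -/
def ndTree77 : Tr (List ℕ) := .node ndTree74 ndTree76

/-- A part of the table. -/
def ndTree78 : Tr (List ℕ) := .node (.leaf nd22) (.leaf nd150)

/-- A part of the table. -/
def ndTree79 : Tr (List ℕ) := .node ndTree78 (.leaf nd86)

/-- A part of the table. -/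
def ndTree80 : Tr (List ℕ) := .node (.leaf nd54) (.leaf nd182)

/-- A part of the table. -/
def ndTree81 : Tr (List ℕ) := .node ndTree80 (.leaf nd118)

/-- A part of the table. -/
def ndTree82 : Tr (List ℕ) := .node ndTree79 ndTree81

/-- A part of the table. -/
def ndTree83 : Tr (List ℕ) := .node ndTree77 ndTree82

/-- A part of the table. -/
def ndTree84 : Tr (List ℕ) := .node (.leaf nd14) (.leaf nd142)

/-- A part of the table. -/
def ndTree85 : Tr (List ℕ) := .node ndTree84 (.leaf nd78)

/-- A part of the table. -/
def ndTree86 : Tr (List ℕ) := .node (.leaf nd46) (.leaf nd174)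

/-- A part of the table. -/
def ndTree87 : Tr (List ℕ) := .node ndTree86 (.leaf nd110)

/-- A part of the table. -/
def ndTree88 : Tr (List ℕ) := .node ndTree85 ndTree87

/-- A part of the table. -/
def ndTree89 : Tr (List ℕ) := .node (.leaf nd30) (.leaf nd158)

/-- A part of the table. -/
def ndTree90 : Tr (List ℕ) := .node ndTree89 (.leaf nd94)

/-- A part of the table. -/
def ndTree91 : Tr (List ℕ) := .node (.leaf nd62) (.leaf nd190)

/-- A part of the table. -/
def ndTree92 : Tr (List ℕ) := .node ndTree91 (.leaf nd126)

/-- A part of the table. -/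
def ndTree93 : Tr (List ℕ) := .node ndTree90 ndTree92

/-- A part of the table. -/
def ndTree94 : Tr (List ℕ) := .node ndTree88 ndTree93

/-- A part of the table. -/
def ndTree95 : Tr (List ℕ) := .node ndTree83 ndTree94

/-- A part of the table. -/
def ndTree96 : Tr (List ℕ) := .node ndTree72 ndTree95

/-- A part of the table. -/
def ndTree97 : Tr (List ℕ) := .node ndTree48 ndTree96

/-- A part of the table. -/
def ndTree98 : Tr (List ℕ) := .node (.leaf nd1) (.leaf nd129)

/-- A part of the table. -/
def ndTree99 : Tr (List ℕ) := .node (.leaf nd65) (.leaf nd193)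

/-- A part of the table. -/
def ndTree100 : Tr (List ℕ) := .node ndTree98 ndTree99

/-- A part of the table. -/
def ndTree101 : Tr (List ℕ) := .node (.leaf nd33) (.leaf nd161)

/-- A part of the table. -/
def ndTree102 : Tr (List ℕ) := .node ndTree101 (.leaf nd97)

/-- A part of the table. -/
def ndTree103 : Tr (List ℕ) := .node ndTree100 ndTree102

/-- A part of the table. -/
def ndTree104 : Tr (List ℕ) := .node (.leaf nd17) (.leaf nd145)

/-- A part of the table. -/
def ndTree105 : Tr (List ℕ) := .node ndTree104 (.leaf nd81)

/-- A part of the table. -/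
def ndTree106 : Tr (List ℕ) := .node (.leaf nd49) (.leaf nd177)

/-- A part of the table. -/
def ndTree107 : Tr (List ℕ) := .node ndTree106 (.leaf nd113)

/-- A part of the table. -/
def ndTree108 : Tr (List ℕ) := .node ndTree105 ndTree107

/-- A part of the table. -/
def ndTree109 : Tr (List ℕ) := .node ndTree103 ndTree108

/-- A part of the table. -/
def ndTree110 : Tr (List ℕ) := .node (.leaf nd9) (.leaf nd137)

/-- A part of the table. -/
def ndTree111 : Tr (List ℕ) := .node ndTree110 (.leaf nd73)

/-- A part of the table. -/
def ndTree112 : Tr (List ℕ) := .node (.leaf nd41) (.leaf nd169)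

/-- A part of the table. -/
def ndTree113 : Tr (List ℕ) := .node ndTree112 (.leaf nd105)

/-- A part of the table. -/
def ndTree114 : Tr (List ℕ) := .node ndTree111 ndTree113

/-- A part of the table. -/
def ndTree115 : Tr (List ℕ) := .node (.leaf nd25) (.leaf nd153)

/-- A part of the table. -/
def ndTree116 : Tr (List ℕ) := .node ndTree115 (.leaf nd89)

/-- A part of the table. -/
def ndTree117 : Tr (List ℕ) := .node (.leaf nd57) (.leaf nd185)

/-- A part of the table. -/
def ndTree118 : Tr (List ℕ) := .node ndTree117 (.leaf nd121)

/-- A part of the table. -/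
def ndTree119 : Tr (List ℕ) := .node ndTree116 ndTree118

/-- A part of the table. -/
def ndTree120 : Tr (List ℕ) := .node ndTree114 ndTree119

/-- A part of the table. -/
def ndTree121 : Tr (List ℕ) := .node ndTree109 ndTree120

/-- A part of the table. -/
def ndTree122 : Tr (List ℕ) := .node (.leaf nd5) (.leaf nd133)

/-- A part of the table. -/
def ndTree123 : Tr (List ℕ) := .node ndTree122 (.leaf nd69)

/-- A part of the table. -/
def ndTree124 : Tr (List ℕ) := .node (.leaf nd37) (.leaf nd165)

/-- A part of the table. -/
def ndTree125 : Tr (List ℕ) := .node ndTree124 (.leaf nd101)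

/-- A part of the table. -/
def ndTree126 : Tr (List ℕ) := .node ndTree123 ndTree125

/-- A part of the table. -/
def ndTree127 : Tr (List ℕ) := .node (.leaf nd21) (.leaf nd149)

/-- A part of the table. -/
def ndTree128 : Tr (List ℕ) := .node ndTree127 (.leaf nd85)

/-- A part of the table. -/
def ndTree129 : Tr (List ℕ) := .node (.leaf nd53) (.leaf nd181)

/-- A part of the table. -/
def ndTree130 : Tr (List ℕ) := .node ndTree129 (.leaf nd117)

/-- A part of the table. -/
def ndTree131 : Tr (List ℕ) := .node ndTree128 ndTree130

/-- A part of the table. -/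
def ndTree132 : Tr (List ℕ) := .node ndTree126 ndTree131

/-- A part of the table. -/
def ndTree133 : Tr (List ℕ) := .node (.leaf nd13) (.leaf nd141)

/-- A part of the table. -/
def ndTree134 : Tr (List ℕ) := .node ndTree133 (.leaf nd77)

/-- A part of the table. -/
def ndTree135 : Tr (List ℕ) := .node (.leaf nd45) (.leaf nd173)

/-- A part of the table. -/
def ndTree136 : Tr (List ℕ) := .node ndTree135 (.leaf nd109)

/-- A part of the table. -/
def ndTree137 : Tr (List ℕ) := .node ndTree134 ndTree136

/-- A part of the table. -/
def ndTree138 : Tr (List ℕ) := .node (.leaf nd29) (.leaf nd157)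

/-- A part of the table. -/
def ndTree139 : Tr (List ℕ) := .node ndTree138 (.leaf nd93)

/-- A part of the table. -/
def ndTree140 : Tr (List ℕ) := .node (.leaf nd61) (.leaf nd189)

/-- A part of the table. -/
def ndTree141 : Tr (List ℕ) := .node ndTree140 (.leaf nd125)

/-- A part of the table. -/
def ndTree142 : Tr (List ℕ) := .node ndTree139 ndTree141

/-- A part of the table. -/
def ndTree143 : Tr (List ℕ) := .node ndTree137 ndTree142

/-- A part of the table. -/
def ndTree144 : Tr (List ℕ) := .node ndTree132 ndTree143

/-- A part of the table. -/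
def ndTree145 : Tr (List ℕ) := .node ndTree121 ndTree144

/-- A part of the table. -/
def ndTree146 : Tr (List ℕ) := .node (.leaf nd3) (.leaf nd131)

/-- A part of the table. -/
def ndTree147 : Tr (List ℕ) := .node (.leaf nd67) (.leaf nd195)

/-- A part of the table. -/
def ndTree148 : Tr (List ℕ) := .node ndTree146 ndTree147

/-- A part of the table. -/
def ndTree149 : Tr (List ℕ) := .node (.leaf nd35) (.leaf nd163)

/-- A part of the table. -/
def ndTree150 : Tr (List ℕ) := .node ndTree149 (.leaf nd99)

/-- A part of the table. -/
def ndTree151 : Tr (List ℕ) := .node ndTree148 ndTree150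

/-- A part of the table. -/
def ndTree152 : Tr (List ℕ) := .node (.leaf nd19) (.leaf nd147)

/-- A part of the table. -/
def ndTree153 : Tr (List ℕ) := .node ndTree152 (.leaf nd83)

/-- A part of the table. -/
def ndTree154 : Tr (List ℕ) := .node (.leaf nd51) (.leaf nd179)

/-- A part of the table. -/
def ndTree155 : Tr (List ℕ) := .node ndTree154 (.leaf nd115)

/-- A part of the table. -/
def ndTree156 : Tr (List ℕ) := .node ndTree153 ndTree155

/-- A part of the table. -/
def ndTree157 : Tr (List ℕ) := .node ndTree151 ndTree156

/-- A part of the table. -/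
def ndTree158 : Tr (List ℕ) := .node (.leaf nd11) (.leaf nd139)

/-- A part of the table. -/
def ndTree159 : Tr (List ℕ) := .node ndTree158 (.leaf nd75)

/-- A part of the table. -/
def ndTree160 : Tr (List ℕ) := .node (.leaf nd43) (.leaf nd171)

/-- A part of the table. -/
def ndTree161 : Tr (List ℕ) := .node ndTree160 (.leaf nd107)

/-- A part of the table. -/
def ndTree162 : Tr (List ℕ) := .node ndTree159 ndTree161

/-- A part of the table. -/
def ndTree163 : Tr (List ℕ) := .node (.leaf nd27) (.leaf nd155)

/-- A part of the table. -/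
def ndTree164 : Tr (List ℕ) := .node ndTree163 (.leaf nd91)

/-- A part of the table. -/
def ndTree165 : Tr (List ℕ) := .node (.leaf nd59) (.leaf nd187)

/-- A part of the table. -/
def ndTree166 : Tr (List ℕ) := .node ndTree165 (.leaf nd123)

/-- A part of the table. -/
def ndTree167 : Tr (List ℕ) := .node ndTree164 ndTree166

/-- A part of the table. -/
def ndTree168 : Tr (List ℕ) := .node ndTree162 ndTree167

/-- A part of the table. -/
def ndTree169 : Tr (List ℕ) := .node ndTree157 ndTree168

/-- A part of the table. -/
def ndTree170 : Tr (List ℕ) := .node (.leaf nd7) (.leaf nd135)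

/-- A part of the table. -/
def ndTree171 : Tr (List ℕ) := .node ndTree170 (.leaf nd71)

/-- A part of the table. -/
def ndTree172 : Tr (List ℕ) := .node (.leaf nd39) (.leaf nd167)

/-- A part of the table. -/
def ndTree173 : Tr (List ℕ) := .node ndTree172 (.leaf nd103)

/-- A part of the table. -/
def ndTree174 : Tr (List ℕ) := .node ndTree171 ndTree173

/-- A part of the table. -/
def ndTree175 : Tr (List ℕ) := .node (.leaf nd23) (.leaf nd151)

/-- A part of the table. -/
def ndTree176 : Tr (List ℕ) := .node ndTree175 (.leaf nd87)

/-- A part of the table. -/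
def ndTree177 : Tr (List ℕ) := .node (.leaf nd55) (.leaf nd183)

/-- A part of the table. -/
def ndTree178 : Tr (List ℕ) := .node ndTree177 (.leaf nd119)

/-- A part of the table. -/
def ndTree179 : Tr (List ℕ) := .node ndTree176 ndTree178

/-- A part of the table. -/
def ndTree180 : Tr (List ℕ) := .node ndTree174 ndTree179

/-- A part of the table. -/
def ndTree181 : Tr (List ℕ) := .node (.leaf nd15) (.leaf nd143)

/-- A part of the table. -/
def ndTree182 : Tr (List ℕ) := .node ndTree181 (.leaf nd79)

/-- A part of the table. -/
def ndTree183 : Tr (List ℕ) := .node (.leaf nd47) (.leaf nd175)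

/-- A part of the table. -/
def ndTree184 : Tr (List ℕ) := .node ndTree183 (.leaf nd111)

/-- A part of the table. -/
def ndTree185 : Tr (List ℕ) := .node ndTree182 ndTree184

/-- A part of the table. -/
def ndTree186 : Tr (List ℕ) := .node (.leaf nd31) (.leaf nd159)

/-- A part of the table. -/
def ndTree187 : Tr (List ℕ) := .node ndTree186 (.leaf nd95)

/-- A part of the table. -/
def ndTree188 : Tr (List ℕ) := .node (.leaf nd63) (.leaf nd191)

/-- A part of the table. -/
def ndTree189 : Tr (List ℕ) := .node ndTree188 (.leaf nd127)

/-- A part of the table. -/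
def ndTree190 : Tr (List ℕ) := .node ndTree187 ndTree189

/-- A part of the table. -/
def ndTree191 : Tr (List ℕ) := .node ndTree185 ndTree190

/-- A part of the table. -/
def ndTree192 : Tr (List ℕ) := .node ndTree180 ndTree191

/-- A part of the table. -/
def ndTree193 : Tr (List ℕ) := .node ndTree169 ndTree192

/-- A part of the table. -/
def ndTree194 : Tr (List ℕ) := .node ndTree145 ndTree193

/-- A part of the table. -/
def ndTree195 : Tr (List ℕ) := .node ndTree97 ndTree194

/-- The table. -/
def ndTab : Tr (List ℕ) := ndTree195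

/-- The products. -/
def ndProg0 : List (ℕ × ℕ) := [(3, 2), (1, 4), (1, 0), (0, 6), (5, 7), (8, 8), (9, 9), (10, 8), (0, 2), (12, 11), (13, 6), (11, 14), (1, 3), (3, 16), (2, 0), (3, 0), (18, 19), (20, 16), (17, 21), (3, 20), (16, 20), (23, 24), (25, 11), (26, 22), (11, 27), (28, 28), (29, 28), (30, 30), (31, 28), (22, 32), (33, 33), (6, 11), (35, 12), (11, 36), (37, 37), (38, 37), (39, 39), (40, 37), (41, 41), (42, 37), (12, 43), (34, 44), (45, 33), (46, 44), (47, 33), (3, 1), (2, 49), (3, 6), (50, 51), (0, 20)]

/-- The products. -/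
def ndProg1 : List (ℕ × ℕ) := [(53, 50), (54, 11), (55, 52), (11, 56), (57, 57), (58, 58), (59, 57), (60, 60), (61, 61), (62, 57), (52, 63), (64, 44), (2, 4), (3, 66), (67, 11), (1, 49), (69, 3), (68, 70), (11, 71), (72, 72), (73, 72), (74, 74), (65, 75), (0, 1), (2, 77), (7, 78), (79, 11), (0, 18), (78, 81), (80, 82), (11, 83), (76, 84), (85, 33), (86, 84), (87, 64), (88, 64), (89, 89), (90, 90), (91, 89), (48, 92), (93, 93), (94, 94), (84, 44), (96, 75), (97, 64), (98, 75), (64, 84), (2, 12), (101, 11), (1, 77)]

/-- The products. -/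
def ndProg2 : List (ℕ × ℕ) := [(102, 103), (11, 104), (105, 105), (106, 106), (107, 105), (100, 108), (109, 109), (110, 109), (111, 111), (112, 112), (113, 109), (99, 114), (18, 6), (12, 77), (117, 115), (118, 116), (115, 119), (120, 120), (121, 121), (122, 122), (123, 123), (116, 124), (125, 125), (4, 7), (127, 115), (0, 16), (12, 129), (128, 130), (115, 131), (132, 132), (133, 132), (134, 134), (126, 135), (136, 125), (16, 115), (138, 4), (115, 139), (140, 140), (141, 140), (142, 142), (143, 140), (144, 144), (145, 140), (137, 146), (137, 137), (148, 137), (149, 149), (150, 150), (151, 137), (147, 152)]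

/-- The products. -/
def ndProg3 : List (ℕ × ℕ) := [(0, 153), (154, 0), (153, 155), (156, 156), (157, 157), (1, 153), (159, 2), (153, 160), (161, 161), (162, 161), (163, 163), (158, 164), (54, 153), (166, 52), (153, 167), (168, 168), (169, 169), (165, 170), (49, 153), (172, 20), (153, 173), (174, 174), (175, 175), (176, 174), (20, 177), (171, 178), (179, 170), (180, 158), (178, 164), (20, 153), (183, 49), (153, 184), (185, 185), (186, 186), (187, 185), (49, 188), (182, 189), (190, 189), (191, 189), (192, 164), (193, 178), (194, 194), (195, 194), (196, 196), (197, 194), (181, 198), (115, 199)]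

end Cfsg.Lib.J4NonLocal.Borel
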